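import Cfsg.Agent.Lib.Compute.Mathieu.ClassesM22Data

/-! Kernel checks on the class certificate of M22. -/

set_option autoImplicit false
set_option maxRecDepth 100000

namespace Cfsg.Agent.Lib.Compute.Mathieu

open Cfsg.Agent.Lib.Fusion (memCode)

/-- Candidates centralising the involution. -/
noncomputable def m22InvolCent : List ℕ :=
  transList (permOps 8 24) m22Invol.1 m22Invol.1 m22Chain (permOps 8 24).one []

/-- All literals are elements of the group. -/
theorem m22Cls_pairs : (m22Invol :: m22El5 :: m22El7 :: m22El11 :: m22Pow5 :: m22Pow7 :: m22Pow11 ::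
    (m22QGens ++ m22QEls ++ m22InvolConj)).all (pairCheck 8 24 m22Chain) = true := by decide +kernel

/-- The involution. -/
theorem m22Cls_invol : (Nat.beq (mulP 8 24 m22Invol.1 m22Invol.1) (permOps 8 24).one &&
    !Nat.beq m22Invol.1 (permOps 8 24).one) = true := by decide +kernel

/-- The small subgroup is a 2-group inside the centralizer, containing its generators. -/
theorem m22Cls_core : (memCode (permOps 8 24).one (m22QEls.map Prod.fst) &&
    (m22QEls.all fun a => m22QEls.all fun b =>
      forceNat (mulP 8 24 a.1 b.1) fun c => memCode c (m22QEls.map Prod.fst)) &&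
    (m22QEls.all fun a => Nat.beq (mulP 8 24 a.1 m22Invol.1) (mulP 8 24 m22Invol.1 a.1)) &&
    (m22QEls.all fun a => forceNat (mulP 8 24 a.1 a.1) fun c => forceNat (mulP 8 24 c c) fun d =>
      Nat.beq (mulP 8 24 d d) (permOps 8 24).one) &&
    m22QGens.all fun a => memCode a.1 (m22QEls.map Prod.fst)) = true := by decide +kernel

/-- It is normal in the centralizer. -/
theorem m22Cls_normal : (m22InvolCent.all fun c => forceNat c fun c => m22QEls.all fun q =>
    forceNat (mulP 8 24 c q.1) fun d => m22QEls.any fun r => Nat.beq d (mulP 8 24 r.1 c)) = true := by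
  decide +kernel

/-- It contains its centralizer. -/
theorem m22Cls_selfCent : (m22InvolCent.all fun c => forceNat c fun c =>
    !(m22QGens.all fun q => Nat.beq (mulP 8 24 c q.1) (mulP 8 24 q.1 c)) ||
      memCode c (m22QEls.map Prod.fst)) = true := by decide +kernel

/-- The involutions of the Sylow subgroup are conjugate to the involution. -/
theorem m22Cls_fused : ((elems (permOps 8 24) Fusion.Mathieu.m22SylChain).all fun c => forceNat c fun c =>
    Nat.beq c (permOps 8 24).one || !Nat.beq (mulP 8 24 c c) (permOps 8 24).one ||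
      m22InvolConj.any fun g => Nat.beq (mulP 8 24 g.1 m22Invol.1) (mulP 8 24 c g.1)) = true := by
  decide +kernel

/-- Powers of a code. -/
noncomputable def codePow (c : ℕ) : ℕ → ℕ
  | 0 => (permOps 8 24).one
  | k + 1 => mulP 8 24 c (codePow c k)

/-- The checks on an element of prime order. -/
noncomputable def elCheck (x t : ℕ × ℕ) (q j : ℕ) : Bool :=
  Nat.beq (codePow x.1 q) (permOps 8 24).one && !Nat.beq x.1 (permOps 8 24).one &&
    Nat.beq (mulP 8 24 t.1 x.1) (mulP 8 24 (codePow x.1 j) t.1) &&
    Nat.ble (transList (permOps 8 24) x.1 x.1 m22Chain (permOps 8 24).one []).length q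

theorem m22Cls_el5 : elCheck m22El5 m22Pow5 5 2 = true := by decide +kernel

theorem m22Cls_el7 : elCheck m22El7 m22Pow7 7 2 = true := by decide +kernel

theorem m22Cls_el11 : elCheck m22El11 m22Pow11 11 3 = true := by decide +kernel

theorem m22Cls_inv7 : (transList (permOps 8 24) m22El7.1 m22El7.2 m22Chain (permOps 8 24).one
    []).isEmpty = true := by decide +kernel

theorem m22Cls_inv11 : (transList (permOps 8 24) m22El11.1 m22El11.2 m22Chain (permOps 8 24).one
    []).isEmpty = true := by decide +kernel

end Cfsg.Agent.Lib.Compute.Mathieu
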