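import Cfsg.Agent.Lib.Compute.Mathieu.Groups
import Cfsg.Agent.Lib.Compute.Mathieu.ClassesM22Check
import Mathlib

/-!
# Conjugacy facts on M22 from the certificate
-/

set_option autoImplicit false

namespace Cfsg.Agent.Lib.Compute.Mathieu

open Cfsg.Agent.Lib.Fusion (memCode memCode_iff)

/-- The certified M22. -/
noncomputable abbrev m22Group : Subgroup (Equiv.Perm Cfsg.GolayPt) := genGroup ptCoding m22Gens

/-- The code of an element. -/
noncomputable def m22Enc (g : m22Group) : ℕ := ptCoding.enc (g : Equiv.Perm Cfsg.GolayPt)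

theorem permOps_mul (w n : ℕ) : (permOps w n).mul = mulP w n := rfl

theorem m22Enc_mul (g h : m22Group) : m22Enc (g * h) = mulP 8 24 (m22Enc g) (m22Enc h) := by
  rw [← permOps_mul]
  unfold m22Enc
  rw [Subgroup.coe_mul]
  exact (ptCoding.mul_enc (g : Equiv.Perm Cfsg.GolayPt) (h : Equiv.Perm Cfsg.GolayPt)).symm

theorem m22Enc_one : m22Enc 1 = (permOps 8 24).one := ptCoding.one_enc

theorem m22Enc_inj : Function.Injective m22Enc := fun _ _ h => Subtype.ext (ptCoding.inj h)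

theorem m22_lift {p : ℕ × ℕ} (h : pairCheck 8 24 m22Chain p = true) :
    ∃ g : m22Group, m22Enc g = p.1 ∧ m22Enc g⁻¹ = p.2 := by
  obtain ⟨hok, hle⟩ := gensOK_of_pairCheck ptEquiv (by decide) gensOK_m22 m22Chain_ok
    (T := [p]) (by simp [h])
  obtain ⟨g, -, h1, h2⟩ := hok p (List.mem_singleton_self p)
  exact ⟨⟨g, hle (mem_genGroup_of_enc _ (List.mem_singleton_self p) h1)⟩, h1, h2⟩

theorem m22_mem_transList {x y g : m22Group} (h : g * x = y * g) :
    m22Enc g ∈ transList (permOps 8 24) (m22Enc x) (m22Enc y) m22Chain (permOps 8 24).one [] :=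
  enc_mem_transList_top ptCoding gensOK_m22 m22Chain_ok (congrArg Subtype.val h) g.2

theorem m22_pairs {p : ℕ × ℕ}
    (h : p ∈ m22Invol :: m22El5 :: m22El7 :: m22El11 :: m22Pow5 :: m22Pow7 :: m22Pow11 ::
      (m22QGens ++ m22QEls ++ m22InvolConj)) : ∃ g : m22Group, m22Enc g = p.1 ∧ m22Enc g⁻¹ = p.2 :=
  m22_lift (List.all_eq_true.1 m22Cls_pairs p h)

theorem exists_sylow_elems (x : m22Group) (hx : x * x = 1) :
    ∃ y : m22Group, m22Enc y ∈ elems (permOps 8 24) Fusion.Mathieu.m22SylChain ∧ IsConj x y := by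
  classical
  have : Fact (Nat.Prime 2) := ⟨Nat.prime_two⟩
  set C := permCoding 8 ptEquiv (by decide : 24 ≤ 2 ^ 8)
  have hs := Fusion.Mathieu.m22Sylow_ok
  simp only [Fusion.sylowCheck, Bool.and_eq_true] at hs
  obtain ⟨⟨⟨⟨⟨⟨⟨⟨hPS, hLP⟩, hsz⟩, -⟩, -⟩, -⟩, -⟩, -⟩, -⟩ := hs
  obtain ⟨hok, hle⟩ := gensOK_of_pairCheck ptEquiv _ gensOK_m22 m22Chain_ok hPS
  set P := genGroup C Fusion.Mathieu.m22Fus.PS with hPdef
  have hPH : P ≤ m22Group := hle
  have hsize : Nat.card (P.subgroupOf m22Group) = 2 ^ (Nat.card m22Group).factorization 2 := by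
    rw [Nat.card_congr (Subgroup.subgroupOfEquivOfLe hPH).toEquiv, hPdef,
      card_genGroup C hok hLP, Nat.eq_of_beq_eq_true hsz, card_m22]
    have : (443520 : ℕ) = 2 ^ 7 * 3465 := by norm_num
    rw [this, Nat.factorization_mul (by norm_num) (by norm_num),
      Nat.Prime.factorization_pow Nat.prime_two]
    simp [Nat.factorization_eq_zero_of_not_dvd (by norm_num : ¬ 2 ∣ 3465), Fusion.Mathieu.m22Fus]
  let S₀ : Sylow 2 m22Group := Sylow.ofCard (P.subgroupOf m22Group) hsize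
  have hp : IsPGroup 2 (Subgroup.zpowers x) := by
    intro y
    obtain ⟨i, hi⟩ := Subgroup.mem_zpowers_iff.1 y.2
    refine ⟨1, Subtype.ext ?_⟩
    rw [pow_one, Subgroup.coe_pow, ← hi, pow_two, ← (Commute.refl x).mul_zpow, hx, one_zpow]
    rfl
  obtain ⟨S, hS⟩ := hp.exists_le_sylow
  obtain ⟨c, hc⟩ := MulAction.exists_smul_eq m22Group S S₀
  refine ⟨c * x * c⁻¹, ?_, isConj_iff.2 ⟨c, rfl⟩⟩
  have hmem : c * x * c⁻¹ ∈ (S₀ : Subgroup m22Group) := by
    rw [← hc, Sylow.coe_subgroup_smul]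
    exact ⟨x, hS (Subgroup.mem_zpowers x), by simp⟩
  exact enc_mem_elems C hok hLP hmem

/-- The involutions form one class and their centralizers are 2-constrained. -/
theorem m22_involution : ∃ z : m22Group, orderOf z = 2 ∧ (∀ x : m22Group, orderOf x = 2 → IsConj x z) ∧
    ∃ Q : Subgroup (Subgroup.centralizer (Subgroup.zpowers z : Set m22Group)), Q.Normal ∧
      IsPGroup 2 Q ∧ Subgroup.centralizer (Q : Set _) ≤ Q := by
  classical
  obtain ⟨z, hz, -⟩ := m22_pairs (p := m22Invol) List.mem_cons_self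
  have hinv := m22Cls_invol
  simp only [Bool.and_eq_true, Bool.not_eq_true'] at hinv
  have hzz : z * z = 1 := m22Enc_inj (by
    rw [m22Enc_mul, hz, m22Enc_one]; exact Nat.eq_of_beq_eq_true hinv.1)
  have hz1 : z ≠ 1 := fun h => by
    have h2 := hinv.2
    rw [← hz, h, m22Enc_one] at h2
    simp at h2
  have hzo : orderOf z = 2 := orderOf_eq_prime (by rw [pow_two, hzz]) hz1
  refine ⟨z, hzo, fun x hx => ?_, ?_⟩
  · have hxx : x * x = 1 := by rw [← pow_two, ← hx, pow_orderOf_eq_one]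
    obtain ⟨y, hy, hxy⟩ := exists_sylow_elems x hxx
    refine hxy.trans ?_
    have h := List.all_eq_true.1 m22Cls_fused _ hy
    rw [forceNat_eq] at h
    simp only [Bool.or_eq_true, Bool.not_eq_true', List.any_eq_true] at h
    obtain ⟨c, hc⟩ := isConj_iff.1 hxy
    rcases h with (h | h) | ⟨g, hg, h⟩
    · exfalso
      have hy1 : y = 1 := m22Enc_inj ((Nat.eq_of_beq_eq_true h).trans m22Enc_one.symm)
      rw [hy1, mul_inv_eq_one, mul_eq_left] at hc
      rw [hc, orderOf_one] at hx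
      exact absurd hx (by norm_num)
    · exfalso
      have hyy : y * y = 1 := by rw [← hc, conj_mul, hxx, mul_one, mul_inv_cancel]
      have h2 := congrArg m22Enc hyy
      rw [m22Enc_mul, m22Enc_one] at h2
      rw [h2] at h
      simp at h
    · obtain ⟨k, hk, -⟩ := m22_pairs (p := g) (by simp [hg])
      refine (isConj_iff.2 ⟨k, mul_inv_eq_iff_eq_mul.2 (m22Enc_inj ?_)⟩).symm
      rw [m22Enc_mul, m22Enc_mul, hk, hz]
      exact Nat.eq_of_beq_eq_true h
  · set C := Subgroup.centralizer (Subgroup.zpowers z : Set m22Group) with hC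
    have hcent : ∀ c : C, m22Enc (c : m22Group) ∈ m22InvolCent := by
      intro c
      have h : (c : m22Group) * z = z * c :=
        (Subgroup.mem_centralizer_iff.1 c.2 z (Subgroup.mem_zpowers z)).symm
      have := m22_mem_transList h
      rwa [hz] at this
    have hcore := m22Cls_core
    simp only [Bool.and_eq_true, List.all_eq_true, forceNat_eq, memCode_iff] at hcore
    obtain ⟨⟨⟨⟨hone, hmul⟩, hzc⟩, hord⟩, hgens⟩ := hcore
    let Qm : Submonoid C :=
      { carrier := {c | m22Enc (c : m22Group) ∈ m22QEls.map Prod.fst}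
        one_mem' := by
          show m22Enc ((1 : C) : m22Group) ∈ m22QEls.map Prod.fst
          rw [OneMemClass.coe_one, m22Enc_one]; exact hone
        mul_mem' := fun {a b} ha hb => by
          obtain ⟨a', ha', hae⟩ := List.mem_map.1 ha
          obtain ⟨b', hb', hbe⟩ := List.mem_map.1 hb
          show m22Enc ((a : m22Group) * b) ∈ m22QEls.map Prod.fst
          rw [m22Enc_mul, ← hae, ← hbe]
          exact hmul a' ha' b' hb' }
    let Q : Subgroup C :=
      { Qm with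
        inv_mem' := fun {a} ha => by
          have h : a ^ (orderOf a - 1) ∈ Qm := Qm.pow_mem ha _
          rwa [show a ^ (orderOf a - 1) = a⁻¹ from eq_inv_of_mul_eq_one_left (by
            rw [← pow_succ, Nat.sub_add_cancel (orderOf_pos a), pow_orderOf_eq_one])] at h }
    have hQmem : ∀ c : C, c ∈ Q ↔ m22Enc (c : m22Group) ∈ m22QEls.map Prod.fst := fun c => Iff.rfl
    have hlift : ∀ p ∈ m22QEls, ∃ c : C, c ∈ Q ∧ m22Enc (c : m22Group) = p.1 := by
      intro p hp
      obtain ⟨g, hg, -⟩ := m22_pairs (p := p) (by simp [hp])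
      have hgz : g * z = z * g := m22Enc_inj (by
        rw [m22Enc_mul, m22Enc_mul, hg, hz]; exact Nat.eq_of_beq_eq_true (hzc p hp))
      refine ⟨⟨g, ?_⟩, (hQmem _).2 ?_, hg⟩
      · rw [hC, Subgroup.mem_centralizer_iff]
        intro w hw
        obtain ⟨i, rfl⟩ := Subgroup.mem_zpowers_iff.1 hw
        exact ((show Commute g z from hgz).symm.zpow_left i).eq
      · rw [hg]; exact List.mem_map_of_mem hp
    refine ⟨Q, ⟨fun q hq c => ?_⟩, fun q => ?_, fun c hc => ?_⟩
    · obtain ⟨p, hp, hpe⟩ := List.mem_map.1 ((hQmem q).1 hq)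
      have h := List.all_eq_true.1 m22Cls_normal _ (hcent c)
      rw [forceNat_eq] at h
      have h' := List.all_eq_true.1 h p hp
      rw [forceNat_eq, List.any_eq_true] at h'
      obtain ⟨r, hr, hre⟩ := h'
      obtain ⟨r', hr', hre'⟩ := hlift r hr
      have he : (c * q * c⁻¹ : C) = r' := by
        rw [mul_inv_eq_iff_eq_mul]
        refine Subtype.ext (m22Enc_inj ?_)
        rw [Subgroup.coe_mul, Subgroup.coe_mul, m22Enc_mul, m22Enc_mul, ← hpe, hre']
        exact Nat.eq_of_beq_eq_true hre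
      rw [he]; exact hr'
    · obtain ⟨p, hp, hpe⟩ := List.mem_map.1 ((hQmem q.1).1 q.2)
      refine ⟨3, Subtype.ext (Subtype.ext (m22Enc_inj ?_))⟩
      have h8 : ((q : C) : m22Group) ^ 2 ^ 3 =
          (((q : C) : m22Group) * q * ((q : C) * q)) * (((q : C) : m22Group) * q * ((q : C) * q)) := by
        simp [pow_succ, mul_assoc]
      rw [Subgroup.coe_pow, Subgroup.coe_pow, h8, m22Enc_mul, m22Enc_mul, m22Enc_mul, ← hpe,
        OneMemClass.coe_one, OneMemClass.coe_one, m22Enc_one]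
      exact Nat.eq_of_beq_eq_true (hord p hp)
    · have h := List.all_eq_true.1 m22Cls_selfCent _ (hcent c)
      rw [forceNat_eq] at h
      simp only [Bool.or_eq_true, Bool.not_eq_true', memCode_iff] at h
      refine (hQmem c).2 (h.resolve_left fun hh => ?_)
      obtain ⟨p, hp, hpne⟩ := List.all_eq_false.1 hh
      obtain ⟨p', hp', hpp⟩ := List.mem_map.1 (hgens p hp)
      obtain ⟨q, hq, hqe⟩ := hlift p' hp'
      refine hpne ?_
      have hcomm := congrArg (fun x : C => m22Enc (x : m22Group))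
        (Subgroup.mem_centralizer_iff.1 hc q hq)
      simp only [Subgroup.coe_mul, m22Enc_mul, hqe, hpp] at hcomm
      rw [hcomm]
      simp

theorem m22Enc_pow (x : m22Group) : ∀ k, m22Enc (x ^ k) = codePow (m22Enc x) k
  | 0 => by rw [pow_zero, m22Enc_one]; rfl
  | k + 1 => by rw [pow_succ', m22Enc_mul, m22Enc_pow x k]; rfl

theorem m22_element {p t : ℕ × ℕ} {q j : ℕ} (hq : q.Prime)
    (hp : ∃ g : m22Group, m22Enc g = p.1 ∧ m22Enc g⁻¹ = p.2)
    (ht : ∃ g : m22Group, m22Enc g = t.1 ∧ m22Enc g⁻¹ = t.2) (h : elCheck p t q j = true) :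
    ∃ x : m22Group, m22Enc x = p.1 ∧ m22Enc x⁻¹ = p.2 ∧ orderOf x = q ∧ IsConj x (x ^ j) ∧
      Nat.card (Subgroup.centralizer ({x} : Set m22Group)) ≤ q := by
  classical
  obtain ⟨x, hx, hx'⟩ := hp
  obtain ⟨g, hg, -⟩ := ht
  simp only [elCheck, Bool.and_eq_true, Bool.not_eq_true', Nat.ble_eq] at h
  obtain ⟨⟨⟨h1, h2⟩, h3⟩, h4⟩ := h
  have : Fact q.Prime := ⟨hq⟩
  refine ⟨x, hx, hx', orderOf_eq_prime (m22Enc_inj ?_) (fun he => ?_), ?_, ?_⟩
  · rw [m22Enc_pow, hx, m22Enc_one]; exact Nat.eq_of_beq_eq_true h1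
  · rw [← hx, he, m22Enc_one] at h2
    simp at h2
  · refine isConj_iff.2 ⟨g, mul_inv_eq_iff_eq_mul.2 (m22Enc_inj ?_)⟩
    rw [m22Enc_mul, m22Enc_mul, m22Enc_pow, hg, hx]
    exact Nat.eq_of_beq_eq_true h3
  · obtain ⟨L, hL⟩ : ∃ L, L = transList (permOps 8 24) p.1 p.1 m22Chain (permOps 8 24).one [] :=
      ⟨_, rfl⟩
    rw [← hL] at h4
    let f : Subgroup.centralizer ({x} : Set m22Group) → L.toFinset := fun c =>
      ⟨m22Enc (c : m22Group), by
        rw [List.mem_toFinset, hL, ← hx]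
        exact m22_mem_transList (Subgroup.mem_centralizer_singleton_iff.1 c.2)⟩
    have hf : Function.Injective f := fun a b hab => by
      have h := congrArg Subtype.val hab
      simp only [f] at h
      exact Subtype.ext (m22Enc_inj h)
    refine (Nat.card_le_card_of_injective f hf).trans ?_
    rw [Nat.card_eq_fintype_card, Fintype.card_coe]
    exact (L.toFinset_card_le).trans h4

theorem m22_not_conj_inv {x : m22Group} {p : ℕ × ℕ} (hx : m22Enc x = p.1) (hx' : m22Enc x⁻¹ = p.2)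
    (h : (transList (permOps 8 24) p.1 p.2 m22Chain (permOps 8 24).one []).isEmpty = true) :
    ¬ IsConj x x⁻¹ := by
  intro hc
  obtain ⟨g, hg⟩ := isConj_iff.1 hc
  have hm := m22_mem_transList (show g * x = x⁻¹ * g from mul_inv_eq_iff_eq_mul.1 hg)
  rw [hx, hx', List.isEmpty_iff.1 h] at hm
  exact absurd hm (List.not_mem_nil)

theorem m22_el5 : ∃ x : m22Group, orderOf x = 5 ∧ IsConj x (x ^ 2) ∧
    Nat.card (Subgroup.centralizer ({x} : Set m22Group)) ≤ 5 := by
  obtain ⟨x, -, -, h⟩ := m22_element (by norm_num) (m22_pairs (p := m22El5) (by simp))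
    (m22_pairs (p := m22Pow5) (by simp)) m22Cls_el5
  exact ⟨x, h⟩

theorem m22_el7 : ∃ x : m22Group, orderOf x = 7 ∧ IsConj x (x ^ 2) ∧ ¬ IsConj x x⁻¹ ∧
    Nat.card (Subgroup.centralizer ({x} : Set m22Group)) ≤ 7 := by
  obtain ⟨x, h1, h2, h3, h4, h5⟩ := m22_element (by norm_num) (m22_pairs (p := m22El7) (by simp))
    (m22_pairs (p := m22Pow7) (by simp)) m22Cls_el7
  exact ⟨x, h3, h4, m22_not_conj_inv h1 h2 m22Cls_inv7, h5⟩

theorem m22_el11 : ∃ x : m22Group, orderOf x = 11 ∧ IsConj x (x ^ 3) ∧ ¬ IsConj x x⁻¹ ∧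
    Nat.card (Subgroup.centralizer ({x} : Set m22Group)) ≤ 11 := by
  obtain ⟨x, h1, h2, h3, h4, h5⟩ := m22_element (by norm_num) (m22_pairs (p := m22El11) (by simp))
    (m22_pairs (p := m22Pow11) (by simp)) m22Cls_el11
  exact ⟨x, h3, h4, m22_not_conj_inv h1 h2 m22Cls_inv11, h5⟩

end Cfsg.Agent.Lib.Compute.Mathieu
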