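import Cfsg.Agent.Lib.Compute.Mathieu.AutM11
import Cfsg.Agent.Lib.Compute.Mathieu.AutM12
import Cfsg.Agent.Lib.Compute.Mathieu.AutM22
import Cfsg.Agent.Lib.Compute.Mathieu.AutM23
import Cfsg.Agent.Lib.Compute.Mathieu.AutM24
import Cfsg.Agent.Lib.Golay.Simple
import Cfsg.Prelude.Def_Spor_Mathieu

/-! The Mathieu groups of `Cfsg.Spor` as certified groups, and their outer automorphism groups. -/

set_option autoImplicit false

namespace Cfsg.Agent.Lib.Compute.Mathieu

open scoped Pointwise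

theorem m24_eq_gen : genGroup ptCoding m24Gens = Cfsg.M24 := by
  rw [← genM24_eq, Golay.genM24_eq_M24]

theorem m23_eq_spor : genGroup ptCoding m23Gens = Cfsg.Spor.M23 := by
  ext g
  rw [mem_m23_iff, Golay.genM24_eq_M24]
  exact Iff.rfl

theorem m22_eq_spor : genGroup ptCoding m22Gens = Cfsg.Spor.M22 := by
  ext g
  rw [mem_m22_iff, Golay.genM24_eq_M24, ← and_assoc]
  exact Iff.rfl

theorem squareDodecad_eq : Cfsg.Spor.squareDodecad = Golay.dodecad12 := by decide +kernel

theorem m12_eq_spor : genGroup ptCoding m12Gens = Cfsg.Spor.M12 := by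
  rw [Golay.m12_eq, Cfsg.Spor.M12, squareDodecad_eq]

theorem m11_eq_spor : genGroup ptCoding m11Gens = Cfsg.Spor.M11 := by
  ext g
  rw [mem_m11_iff, m12_eq_spor]
  exact Iff.rfl

theorem gensOK_m12 : GensOK ptCoding m12Gens := (gensOK_of_check pairsInM24_m12).1

theorem gensOK_m11 : GensOK ptCoding m11Gens := (gensOK_of_check pairsInM24_m11).1

theorem pairOK_literal {c d : ℕ} (h1 : permCheck 8 24 c d = true)
    (h2 : packP 8 (getP 8 c) 24 = c) (h3 : packP 8 (getP 8 d) 24 = d) :
    PairOK ptCoding ⊤ (c, d) :=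
  pairOK_of_permCheck ptEquiv _ h1 h2 h3

theorem card_out_M11 : Nat.card (Cfsg.Out ↥Cfsg.Spor.M11) = 1 := by
  rw [← m11_eq_spor]
  exact card_out_eq_one ptCoding gensOK_m11 m11Chain_ok m11Aut_ok

theorem card_out_M12 : Nat.card (Cfsg.Out ↥Cfsg.Spor.M12) = 2 := by
  rw [← m12_eq_spor]
  exact card_out_eq_two_of_normalizer ptCoding gensOK_m12 m12Chain_ok m12Aut_ok m12Tri_outer
    (n := m12Outer) (pairOK_literal (by decide +kernel) (by decide +kernel) (by decide +kernel)) (by decide +kernel) (by decide +kernel)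

theorem card_out_M22 : Nat.card (Cfsg.Out ↥Cfsg.Spor.M22) = 2 := by
  rw [← m22_eq_spor]
  exact card_out_eq_two_of_normalizer ptCoding gensOK_m22 m22Chain_ok m22Aut_ok m22Tri_outer
    (n := m22Outer) (pairOK_literal (by decide +kernel) (by decide +kernel) (by decide +kernel)) (by decide +kernel) (by decide +kernel)

theorem card_out_M23 : Nat.card (Cfsg.Out ↥Cfsg.Spor.M23) = 1 := by
  rw [← m23_eq_spor]
  exact card_out_eq_one ptCoding gensOK_m23 m23Chain_ok m23Aut_ok

theorem card_out_M24 : Nat.card (Cfsg.Out ↥Cfsg.M24) = 1 := by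
  rw [← m24_eq_gen]
  exact card_out_eq_one ptCoding gensOK_m24 m24Chain_ok m24Aut_ok

end Cfsg.Agent.Lib.Compute.Mathieu
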