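import Cfsg.Agent.Lib.Compute.Mathieu.CentM24
import Cfsg.Agent.Lib.Compute.Mathieu.Outer
import Cfsg.Agent.Lib.Compute.ActionImage
import Cfsg.Agent.Lib.Compute.Twin
import Cfsg.Agent.Lib.CosetTable.HeInvCent.Data

/-!
An involution of the largest Mathieu group whose centraliser, of order 21504, is isomorphic to a certified
group on the 31 nonzero vectors of five-space over the field of two elements.
-/

set_option autoImplicit false

namespace Cfsg.Agent.Lib.Compute.Mathieu

open Cfsg.Agent.Lib.CosetTable.HeInvCent (slGens slGens_ok slChain slChain_ok slChain_size)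

theorem h24 : (24 : ℕ) ≤ 2 ^ 8 := by norm_num
theorem h31 : (31 : ℕ) ≤ 2 ^ 5 := by norm_num
theorem h55 : (55 : ℕ) ≤ 2 ^ 8 := by norm_num

theorem encP_ptEquiv (σ : Equiv.Perm Cfsg.GolayPt) :
    encP 8 (Equiv.refl (Fin 24)) (ptEquiv.permCongrHom σ) = encP 8 ptEquiv σ :=
  packP_congr fun i hi => by simp [imgP, hi, Equiv.permCongrHom, Equiv.permCongr_apply]

theorem m24CentGens_ok : GensOK ptCoding m24CentGens :=
  gensOK_literal ptEquiv _ (by decide +kernel)

theorem m24CentGens_ok' : GensOK (permCoding 8 (Equiv.refl (Fin 24)) h24) m24CentGens :=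
  gensOK_literal (Equiv.refl (Fin 24)) _ (by decide +kernel)

theorem m24JointGens_ok : GensOK (permCoding 8 (Equiv.refl (Fin 55)) h55) m24JointGens :=
  gensOK_literal (Equiv.refl (Fin 55)) _ (by decide +kernel)

theorem m24CentChain_size : chainSize m24CentChain = 21504 := by decide +kernel

theorem m24JointChain_size : chainSize m24JointChain = 21504 := by decide +kernel

/-- Block check: the joint generators act on the block at `o` as `T`. -/
noncomputable def jointBlock (w m o : ℕ) (T : List (ℕ × ℕ)) : Bool :=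
  Nat.beq T.length 2 && (List.range 2).all fun i => (List.range m).all fun j =>
    Nat.blt (getP w (T.getD i (0, 0)).1 j) m &&
      Nat.beq (getP 8 (m24JointGens.getD i (0, 0)).1 (o + j)) (o + getP w (T.getD i (0, 0)).1 j)

theorem joint_left_check : jointBlock 8 24 0 m24CentGens = true := by decide +kernel

theorem joint_right_check : jointBlock 5 31 24 slGens = true := by decide +kernel

theorem joint_length : m24JointGens.length = 2 := by decide +kernel

/-- The joint group acts on the block at `o` as the group given by `T`. -/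
theorem joint_block {w m o : ℕ} (hw : m ≤ 2 ^ w) (ho : o + m ≤ 55) {T : List (ℕ × ℕ)}
    (hT : GensOK (permCoding w (Equiv.refl (Fin m)) hw) T) (h : jointBlock w m o T = true)
    (hc : Nat.card (genGroup (permCoding w (Equiv.refl (Fin m)) hw) T) = 21504) :
    Nonempty (genGroup (permCoding 8 (Equiv.refl (Fin 55)) h55) m24JointGens ≃*
      genGroup (permCoding w (Equiv.refl (Fin m)) hw) T) := by
  simp only [jointBlock, Bool.and_eq_true, List.all_eq_true, List.mem_range] at h
  obtain ⟨hl, hb⟩ := h
  have hlT : T.length = 2 := Nat.eq_of_beq_eq_true hl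
  have hlK : m24JointGens.length = 2 := joint_length
  have key : ∀ k : Fin m24JointGens.length, ∃ g,
      g ∈ genGroup (permCoding 8 (Equiv.refl (Fin 55)) h55) m24JointGens ∧
      ∀ j : Fin 55, (g j).val = getP 8 (m24JointGens[k.val]).1 j.val := by
    intro k
    obtain ⟨g, -, h1, -⟩ := m24JointGens_ok _ (List.getElem_mem k.isLt)
    refine ⟨g, Subgroup.subset_closure ⟨_, List.getElem_mem k.isLt, h1⟩, fun j => ?_⟩
    rw [← h1, permCoding_enc, getP_encP h55 _ _ j.isLt]
    simp [imgP]
  choose g hg hj using key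
  refine nonempty_mulEquiv_genGroup hw _ (fun j : Fin m => (⟨o + j.val, by omega⟩ : Fin 55))
    (fun i j h => Fin.ext (Nat.add_left_cancel (congrArg Fin.val h :))) (List.ofFn g)
    (fun x hx => by obtain ⟨k, rfl⟩ := List.mem_ofFn.1 hx; exact hg k) hT
    ⟨by rw [List.length_ofFn, hlT, hlK], fun i x p hx hp j => ?_⟩
    (by rw [card_genGroup _ m24JointGens_ok m24JointChain_ok, m24JointChain_size, hc])
  obtain ⟨hi, rfl⟩ := List.getElem?_eq_some_iff.1 hx
  obtain ⟨hi', rfl⟩ := List.getElem?_eq_some_iff.1 hp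
  have hiK : i < m24JointGens.length := by simpa using hi
  obtain ⟨hlt, he⟩ := hb i (hlT ▸ hi') j j.isLt
  simp only [List.getD_eq_getElem _ _ hi', List.getD_eq_getElem _ _ hiK, Nat.blt_eq] at hlt he
  refine ⟨hlt, Fin.ext ?_⟩
  show (((List.ofFn g)[i]'hi) ⟨o + j.val, _⟩).val = _
  rw [List.getElem_ofFn hi, hj]
  exact Nat.eq_of_beq_eq_true he

theorem card_centGens' : Nat.card (genGroup (permCoding 8 (Equiv.refl (Fin 24)) h24) m24CentGens) = 21504 := by
  rw [card_genGroup _ m24CentGens_ok' m24CentChain_ok, m24CentChain_size]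

theorem card_slGens : Nat.card (genGroup (permCoding 5 (Equiv.refl (Fin 31)) h31) slGens) = 21504 := by
  rw [card_genGroup _ (gensOK_literal _ _ slGens_ok) slChain_ok, slChain_size]

/-- The centralising group on 24 points is the group on 31 vectors. -/
theorem cent_equiv_sl : Nonempty (genGroup ptCoding m24CentGens ≃*
    genGroup (permCoding 5 (Equiv.refl (Fin 31)) h31) slGens) := by
  obtain ⟨e1⟩ := joint_block h24 (show 0 + 24 ≤ 55 by norm_num) m24CentGens_ok' joint_left_check
    card_centGens'
  obtain ⟨e2⟩ := joint_block h31 (show 24 + 31 ≤ 55 by norm_num) (gensOK_literal _ _ slGens_ok)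
    joint_right_check card_slGens
  have hmap : (genGroup ptCoding m24CentGens).map ptEquiv.permCongrHom.toMonoidHom =
      genGroup (permCoding 8 (Equiv.refl (Fin 24)) h24) m24CentGens := by
    refine le_antisymm ?_ ?_
    · rw [Subgroup.map_le_iff_le_comap]
      refine (Subgroup.closure_le _).2 ?_
      rintro σ ⟨p, hp, hσ⟩
      refine Subgroup.subset_closure ⟨p, hp, ?_⟩
      rw [← hσ, permCoding_enc, ptCoding, permCoding_enc]
      exact encP_ptEquiv _
    · refine (Subgroup.closure_le _).2 ?_
      rintro σ ⟨p, hp, hσ⟩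
      refine ⟨ptEquiv.permCongrHom.symm σ, Subgroup.subset_closure ⟨p, hp, ?_⟩,
        ptEquiv.permCongrHom.apply_symm_apply σ⟩
      rw [← hσ, permCoding_enc, ptCoding, permCoding_enc, ← encP_ptEquiv,
        MulEquiv.apply_symm_apply]
  exact ⟨((Subgroup.equivMapOfInjective _ _ ptEquiv.permCongrHom.injective).trans
    (MulEquiv.subgroupCongr hmap)).trans (e1.symm.trans e2)⟩

theorem m24InvCheck : Nat.beq (pathEval (permOps 8 24) m24Chain m24InvPath).1 m24Inv.1 = true := by
  decide +kernel

theorem m24CentPaths_ok : (pairsEq (m24CentPaths.map (pathEval (permOps 8 24) m24Chain)) m24CentGens &&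
    m24CentGens.all fun q => Nat.beq ((permOps 8 24).mul q.1 m24Inv.1)
      ((permOps 8 24).mul m24Inv.1 q.1)) = true := by decide +kernel

theorem m24Inv_square : Nat.beq ((permOps 8 24).mul m24Inv.1 m24Inv.1) (permOps 8 24).one = true := by
  decide +kernel

theorem m24Inv_ne : Nat.beq m24Inv.1 (permOps 8 24).one = false := by decide +kernel

theorem m24Twins_le : Nat.ble (twins (permOps 8 24) m24Inv.1 m24Inv.1 m24InvChain).length 21504 = true := by
  decide +kernel

/-- An involution centraliser of order 21504 in the largest Mathieu group. -/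
theorem exists_centralizer_equiv : ∃ z : ↥Cfsg.M24, orderOf z = 2 ∧
    Nonempty (↥(Subgroup.centralizer ({z} : Set ↥Cfsg.M24)) ≃*
      genGroup (permCoding 5 (Equiv.refl (Fin 31)) h31) slGens) := by
  obtain ⟨τ, hτ, eτ, -⟩ : ∃ g ∈ genGroup ptCoding m24Gens, ptCoding.enc g = m24Inv.1 ∧ True := by
    obtain ⟨g, hg, eg, -⟩ := pairOK_pathEval ptCoding gensOK_m24 m24Chain_ok m24InvPath
    exact ⟨g, hg, eg.trans (Nat.eq_of_beq_eq_true m24InvCheck), trivial⟩
  have key := m24CentPaths_ok
  simp only [Bool.and_eq_true] at key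
  have hle : genGroup ptCoding m24CentGens ≤ genGroup ptCoding m24Gens ⊓ Subgroup.centralizer {τ} := by
    refine (Subgroup.closure_le _).2 ?_
    rintro g ⟨q, hq, hg⟩
    rw [← pairsEq_eq key.1] at hq
    obtain ⟨xs, hxs, rfl⟩ := List.mem_map.1 hq
    obtain ⟨g', hg', eg', -⟩ := pairOK_pathEval ptCoding gensOK_m24 m24Chain_ok xs
    obtain rfl := ptCoding.inj (hg.trans eg'.symm)
    refine Subgroup.mem_inf.2 ⟨hg', Subgroup.mem_centralizer_singleton_iff.2 (ptCoding.inj ?_)⟩
    have hm := List.all_eq_true.1 key.2 _ (by rw [← pairsEq_eq key.1]; exact List.mem_map.2 ⟨xs, hxs, rfl⟩)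
    rw [← ptCoding.mul_enc, ← ptCoding.mul_enc, hg, eτ]
    exact Nat.eq_of_beq_eq_true hm
  have hbound : Nat.card (genGroup ptCoding m24Gens ⊓ Subgroup.centralizer {τ} : Subgroup _) ≤ 21504 := by
    have h := Nat.ble_eq.mp m24Twins_le
    generalize hL : twins (permOps 8 24) m24Inv.1 m24Inv.1 m24InvChain = L at h
    have hmem : ∀ x : (genGroup ptCoding m24Gens ⊓ Subgroup.centralizer {τ} : Subgroup _),
        ptCoding.enc x.1 ∈ L := by
      intro x
      have h1 := enc_mem_twins ptCoding (a := τ) (b := τ) gensOK_m24 m24InvChain_ok (g := x.1) x.2.1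
        (Subgroup.mem_centralizer_singleton_iff.1 x.2.2)
      rwa [eτ, hL] at h1
    have h1 := Nat.card_le_card_of_injective
      (fun x : (genGroup ptCoding m24Gens ⊓ Subgroup.centralizer {τ} : Subgroup _) =>
        (⟨ptCoding.enc x.1, List.mem_toFinset.mpr (hmem x)⟩ : {n // n ∈ L.toFinset}))
      (fun x y hxy => Subtype.ext (ptCoding.inj (Subtype.mk.inj hxy)))
    rw [Nat.card_eq_fintype_card (α := {n // n ∈ L.toFinset}), Fintype.card_coe] at h1
    exact h1.trans ((List.toFinset_card_le L).trans h)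
  have heq := Subgroup.eq_of_le_of_card_ge hle (by
    rw [card_genGroup _ m24CentGens_ok m24CentChain_ok, m24CentChain_size]; exact hbound)
  let z : ↥Cfsg.M24 := ⟨τ, m24_eq_gen ▸ hτ⟩
  refine ⟨z, ?_, ?_⟩
  · rw [Subgroup.orderOf_mk]
    refine orderOf_eq_prime (ptCoding.inj ?_) fun h1 => ?_
    · rw [pow_two, ← ptCoding.mul_enc, eτ, ptCoding.one_enc]
      exact Nat.eq_of_beq_eq_true m24Inv_square
    · have h2 := congrArg ptCoding.enc h1
      rw [eτ, ptCoding.one_enc] at h2
      exact absurd m24Inv_ne (by rw [h2]; simp)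
  · have hmap : (Subgroup.centralizer ({z} : Set ↥Cfsg.M24)).map Cfsg.M24.subtype =
        genGroup ptCoding m24CentGens := by
      rw [heq]
      ext g
      simp only [Subgroup.mem_map, Subgroup.mem_centralizer_singleton_iff, Subgroup.mem_inf,
        Subgroup.coe_subtype]
      constructor
      · rintro ⟨x, hx, rfl⟩
        exact ⟨m24_eq_gen.symm ▸ x.2, congrArg Subtype.val hx⟩
      · rintro ⟨hg, hc⟩
        exact ⟨⟨g, m24_eq_gen ▸ hg⟩, Subtype.ext hc, rfl⟩
    obtain ⟨e⟩ := cent_equiv_sl
    exact ⟨((Subgroup.equivMapOfInjective _ _ Cfsg.M24.subtype_injective).trans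
      (MulEquiv.subgroupCongr hmap)).trans e⟩

end Cfsg.Agent.Lib.Compute.Mathieu
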