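import Cfsg.Agent.Lib.Compute.Mathieu.SchurM11
import Cfsg.Agent.Lib.Compute.Mathieu.SchurM23
import Cfsg.Agent.Lib.Compute.Mathieu.SchurM24
import Cfsg.Agent.Lib.Compute.Mathieu.Outer

/-! Schur multipliers of `Spor.M11`, `Spor.M23`, `M24`: trivial. -/

set_option autoImplicit false

namespace Cfsg.Agent.Lib.Compute.Mathieu

open Cfsg.Agent.Lib.Compute.Schur

theorem primes11 : ∀ q ∈ [2, 3, 5, 7, 11, 23], Nat.Prime q := by
  intro q hq
  fin_cases hq <;> norm_num

theorem schur_M11 : Cfsg.HasCyclicSchurMultiplier ↥Cfsg.Spor.M11 1 := by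
  rw [← m11_eq_spor]
  refine hasCyclicSchurMultiplier_one ptCoding gensOK_m11 m11Chain_ok m11Chain_size
    [m11Schur2, m11Schur3] ?_ ?_
    (rest_of_factors [2, 3, 5, 7, 11, 23] (by norm_num) primes11 (by decide +kernel))
  · rintro A hA
    rcases List.mem_pair.1 hA with rfl | rfl
    · exact ⟨Nat.prime_two, m11Schur2_ok⟩
    · exact ⟨Nat.prime_three, m11Schur3_ok⟩
  · rintro A hA
    rcases List.mem_pair.1 hA with rfl | rfl <;> rfl

theorem schur_M23 : Cfsg.HasCyclicSchurMultiplier ↥Cfsg.Spor.M23 1 := by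
  rw [← m23_eq_spor]
  refine hasCyclicSchurMultiplier_one ptCoding gensOK_m23 m23Chain_ok m23Chain_size
    [m23Schur2, m23Schur3] ?_ ?_
    (rest_of_factors [2, 3, 5, 7, 11, 23] (by norm_num) primes11 (by decide +kernel))
  · rintro A hA
    rcases List.mem_pair.1 hA with rfl | rfl
    · exact ⟨Nat.prime_two, m23Schur2_ok⟩
    · exact ⟨Nat.prime_three, m23Schur3_ok⟩
  · rintro A hA
    rcases List.mem_pair.1 hA with rfl | rfl <;> rfl

theorem schur_M24 : Cfsg.HasCyclicSchurMultiplier ↥Cfsg.M24 1 := by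
  rw [← m24_eq_gen]
  refine hasCyclicSchurMultiplier_one ptCoding gensOK_m24 m24Chain_ok m24Chain_size
    [m24Schur2, m24Schur3] ?_ ?_
    (rest_of_factors [2, 3, 5, 7, 11, 23] (by norm_num) primes11 (by decide +kernel))
  · rintro A hA
    rcases List.mem_pair.1 hA with rfl | rfl
    · exact ⟨Nat.prime_two, m24Schur2_ok⟩
    · exact ⟨Nat.prime_three, m24Schur3_ok⟩
  · rintro A hA
    rcases List.mem_pair.1 hA with rfl | rfl <;> rfl

end Cfsg.Agent.Lib.Compute.Mathieu
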