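import Cfsg.Agent.Lib.Compute.Mathieu.SchurM12
import Cfsg.Agent.Lib.Compute.Mathieu.CoverM12
import Cfsg.Agent.Lib.Compute.Schur.BlockCover
import Cfsg.Agent.Lib.Compute.Mathieu.Outer

/-! The Schur multiplier of `Spor.M12` is cyclic of order two. -/

set_option autoImplicit false

namespace Cfsg.Agent.Lib.Compute.Mathieu

open Cfsg.Agent.Lib.Compute.Schur

theorem schur_M12 : Cfsg.HasCyclicSchurMultiplier ↥Cfsg.Spor.M12 2 := by
  rw [← m12_eq_spor]
  have hX : GensOK (permCoding 8 (Equiv.refl (Fin 48)) (by norm_num)) m12CoverGens :=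
    gensOK_literal _ _ (by decide +kernel)
  have hperf := commutator_eq_top (permCoding 8 (Equiv.refl (Fin 48)) (by norm_num)) hX
    m12CoverChain_ok (Ps := m12CoverCommPaths) (K := m12CoverCommGens) (by decide +kernel)
    m12CoverComm_ok (m12CoverComm_size.trans m12CoverChain_size.symm)
  obtain ⟨τ, hτ, hcard, hcyc⟩ : ∃ τ : genGroup (permCoding 8 (Equiv.refl (Fin 48)) (by norm_num))
      m12CoverGens →* genGroup ptCoding m12Gens,
      Cfsg.IsStemExtension τ ∧ Nat.card τ.ker = 2 ∧ IsCyclic τ.ker := exists_block_cover ptEquiv (n := 48) (w := 8) (v := 8) (o := 24)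
    (by norm_num) (by norm_num) (by norm_num) hX gensOK_m12 (by decide +kernel) m12CoverChain_ok
    m12Chain_ok (by rw [m12CoverChain_size, m12Chain_size]) hperf
  haveI := hcyc
  refine hasCyclicSchurMultiplier_of_cover ptCoding gensOK_m12 m12Chain_ok m12Chain_size
    [m12Schur2, m12Schur3] ?_ ?_
    (rest_of_factors [2, 3, 5, 11] (by norm_num) ?_ (by decide +kernel)) τ hτ hcard
  · rintro A hA
    rcases List.mem_pair.1 hA with rfl | rfl
    · exact ⟨Nat.prime_two, m12Schur2_ok⟩
    · exact ⟨Nat.prime_three, m12Schur3_ok⟩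
  · rintro A hA
    rcases List.mem_pair.1 hA with rfl | rfl <;> decide
  · intro q hq
    fin_cases hq <;> norm_num

end Cfsg.Agent.Lib.Compute.Mathieu
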