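import Cfsg.Agent.Lib.Compute.Mathieu.SchurM22
import Cfsg.Agent.Lib.Compute.Mathieu.CoverM22Three
import Cfsg.Agent.Lib.Compute.Mathieu.CoverM22Four
import Cfsg.Agent.Lib.Compute.Schur.FibreCover
import Cfsg.Agent.Lib.Compute.Mathieu.Outer

/-! The Schur multiplier of `Spor.M22` is cyclic of order twelve. -/

set_option autoImplicit false

namespace Cfsg.Agent.Lib.Compute.Mathieu

open Cfsg.Agent.Lib.Compute.Schur Cfsg.Agent.Lib.Compute.Monomial

theorem exists_triple_cover :
    ∃ τ : genGroup (monCoding (d := 231) (q := 3) 10 ptEquiv (by norm_num) (by norm_num)) m22TripleGens →*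
      genGroup ptCoding m22Gens, Cfsg.IsStemExtension τ ∧ Nat.card τ.ker = 3 ∧ IsCyclic τ.ker :=
  exists_monomial_cover ptEquiv (by norm_num) (by norm_num) (by norm_num)
    (gensOK_monomial ptEquiv _ _ m22TripleGens_ok) gensOK_m22 m22TripleProj_ok m22TripleChain_ok
    m22Chain_ok (by rw [m22TripleChain_size, m22Chain_size]) m22TripleKer_ok

theorem exists_quad_cover :
    ∃ τ : genGroup (monCoding (d := 1232) (q := 4) 13 ptEquiv (by norm_num) (by norm_num)) m22QuadGens →*
      genGroup ptCoding m22Gens, Cfsg.IsStemExtension τ ∧ Nat.card τ.ker = 4 ∧ IsCyclic τ.ker :=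
  exists_monomial_cover ptEquiv (by norm_num) (by norm_num) (by norm_num)
    (gensOK_monomial ptEquiv _ _ m22QuadGens_ok) gensOK_m22 m22QuadProj_ok m22QuadChain_ok
    m22Chain_ok (by rw [m22QuadChain_size, m22Chain_size]) m22QuadKer_ok

theorem schur_M22 : Cfsg.HasCyclicSchurMultiplier ↥Cfsg.Spor.M22 12 := by
  rw [← m22_eq_spor]
  obtain ⟨f, hf, f3, hfc⟩ := exists_triple_cover
  obtain ⟨g, hg, g4, hgc⟩ := exists_quad_cover
  haveI : Finite Cfsg.GolayPt := Finite.of_equiv _ ptEquiv.symm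
  haveI := hfc
  haveI := hgc
  obtain ⟨τ, hτ, hcard, hcyc⟩ := exists_fibre_cover hf hg (by rw [f3, g4]; decide)
  haveI := hcyc
  refine hasCyclicSchurMultiplier_of_cover ptCoding gensOK_m22 m22Chain_ok m22Chain_size
    [m22Schur2, m22Schur3] ?_ ?_
    (rest_of_factors [2, 3, 5, 7, 11] (by norm_num) ?_ (by decide +kernel)) τ hτ
    (by rw [hcard, f3, g4])
  · rintro A hA
    rcases List.mem_pair.1 hA with rfl | rfl
    · exact ⟨Nat.prime_two, m22Schur2_ok⟩
    · exact ⟨Nat.prime_three, m22Schur3_ok⟩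
  · rintro A hA
    rcases List.mem_pair.1 hA with rfl | rfl <;> decide
  · intro q hq
    fin_cases hq <;> norm_num

end Cfsg.Agent.Lib.Compute.Mathieu
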